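import Groth.Agent.H19Grp.UnitsProd
import Groth.Agent.H21Rank1.Coord
import Groth.Agent.H18Torsor.DiagExact
import Groth.Agent.H29Curve.UnitsModConstScheme
import Groth.Agent.S16113

/-!
# The character lattice of a connected group variety and the homomorphism to its torus
-/

set_option autoImplicit false
set_option linter.style.haveILetI false
set_option backward.isDefEq.respectTransparency false
set_option backward.isDefEq.respectTransparency.types false
set_option maxHeartbeats 1000000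
set_option synthInstance.maxHeartbeats 400000
universe u

open CategoryTheory CategoryTheory.Limits MonoidalCategory CartesianMonoidalCategory MonObj AlgebraicGeometry
open Groth.Agent Groth.Agent.H18Torsor.DiagExact
open Groth.Agent.H19Grp.UnitsProd (pb pb_comp pb_id)

noncomputable section

namespace Groth.Agent.H19TorQuot

/-- A homomorphism on the universal pair. -/
theorem mu_comp {C : Type*} [Category C] [CartesianMonoidalCategory C] {A B : C} [GrpObj A] [GrpObj B] (f : A ⟶ B)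
    [IsMonHom f] : μ[A] ≫ f = (fst A A ≫ f) * (snd A A ≫ f) := by
  rw [IsMonHom.mul_hom f, Hom.mul_def, lift_fst_comp_snd_comp]

/-- A multiplicative map of groups is a homomorphism. -/
theorem isMonHom_of_mu {C : Type*} [Category C] [CartesianMonoidalCategory C] {A B : C} [GrpObj A] [GrpObj B]
    (f : A ⟶ B) (e : μ[A] ≫ f = (fst A A ≫ f) * (snd A A ≫ f)) : IsMonHom f := by
  refine ⟨?_, by rw [e, Hom.mul_def, lift_fst_comp_snd_comp]⟩
  have h : lift (1 : 𝟙_ C ⟶ A) 1 ≫ μ[A] ≫ f = lift (1 : 𝟙_ C ⟶ A) 1 ≫ ((fst A A ≫ f) * (snd A A ≫ f)) := by rw [e]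
  rw [← Category.assoc, ← Hom.mul_def, _root_.mul_one, MonObj.comp_mul, lift_fst_assoc, lift_snd_assoc] at h
  have h1 : (1 : 𝟙_ C ⟶ A) ≫ f = 1 := mul_eq_left.1 h.symm
  rwa [Hom.one_def, Hom.one_def, toUnit_unique (toUnit (𝟙_ C)) (𝟙 _), Category.id_comp, Category.id_comp] at h1

variable {k : Type u} [Field k]

theorem gmFn_chi {X : Over (Spec (CommRingCat.of k))} {M : Type} [AddCommGroup M]
    (x : X ⟶ Red.DS (Spec (CommRingCat.of k)) M) (m : M) :
    Red.gmFn (x ≫ Red.chi _ m) = chr x (Multiplicative.ofAdd m) := by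
  have h := DFunLike.congr_fun (chr_comp_DSmap x (zmultiplesHom M m : ℤ →+ M)) (Multiplicative.ofAdd (1 : ℤ))
  rw [MonoidHom.comp_apply, AddMonoidHom.toMultiplicative_apply_apply, toAdd_ofAdd, zmultiplesHom_apply, one_zsmul] at h
  exact h

theorem hom_ext_chi {X : Over (Spec (CommRingCat.of k))} {M : Type} [AddCommGroup M]
    {x y : X ⟶ Red.DS (Spec (CommRingCat.of k)) M} (h : ∀ m : M, x ≫ Red.chi _ m = y ≫ Red.chi _ m) : x = y :=
  chr_ext (MonoidHom.ext fun m => by
    have e := congrArg Red.gmFn (h m.toAdd)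
    rwa [gmFn_chi, gmFn_chi] at e)

theorem chr_mul {X : Over (Spec (CommRingCat.of k))} {M : Type} [AddCommGroup M]
    (x y : X ⟶ Red.DS (Spec (CommRingCat.of k)) M) (m : Multiplicative M) : chr (x * y) m = chr x m * chr y m := by
  haveI : IsMonHom (Red.chi (Spec (CommRingCat.of k)) m.toAdd) := H21Diag.isMonHom_DSmap _ _
  have e : Red.gmFn ((x * y) ≫ Red.chi _ m.toAdd) =
      Red.gmFn (x ≫ Red.chi _ m.toAdd) * Red.gmFn (y ≫ Red.chi _ m.toAdd) := by
    exact (congrArg Red.gmFn (MonObj.mul_comp x y (Red.chi (Spec (CommRingCat.of k)) m.toAdd))).trans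
      (H21Rank1.gmFn_mul _ _)
  rw [gmFn_chi, gmFn_chi, gmFn_chi] at e
  exact e

theorem chr_comp {X Y : Over (Spec (CommRingCat.of k))} {M : Type} [AddCommGroup M] (f : Y ⟶ X)
    (x : X ⟶ Red.DS (Spec (CommRingCat.of k)) M) (m : Multiplicative M) : chr (f ≫ x) m = pb f (chr x m) := rfl

variable (G : Over (Spec (CommRingCat.of k))) [GrpObj G]

/-- The units which are characters. -/
def charUnits : Subgroup (Γ(G.left, ⊤))ˣ where
  carrier := {u | pb μ[G] (u : Γ(G.left, ⊤)) = pb (fst G G) (u : Γ(G.left, ⊤)) * pb (snd G G) (u : Γ(G.left, ⊤))}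
  one_mem' := by show pb μ[G] ((1 : (Γ(G.left, ⊤))ˣ) : Γ(G.left, ⊤)) = _; rw [Units.val_one, map_one, map_one, map_one, _root_.mul_one]
  mul_mem' {a b} ha hb := by
    simp only [Set.mem_setOf_eq, Units.val_mul, map_mul] at *
    rw [ha, hb]; ring
  inv_mem' {a} ha := by
    simp only [Set.mem_setOf_eq] at *
    apply (a.isUnit.map (pb μ[G])).mul_left_cancel
    rw [← map_mul, Units.mul_inv, map_one, ha,
      show ∀ p q p' q' : Γ((G ⊗ G).left, ⊤), p * q * (p' * q') = (p * p') * (q * q') from fun p q p' q' => by ring,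
      ← map_mul, ← map_mul, Units.mul_inv, map_one, map_one, _root_.mul_one]

theorem pb_cst {X Y : Over (Spec (CommRingCat.of k))} (f : X ⟶ Y) (c : k) :
    pb f (((Scheme.ΓSpecIso (CommRingCat.of k)).inv ≫ Y.hom.appTop) c) =
      ((Scheme.ΓSpecIso (CommRingCat.of k)).inv ≫ X.hom.appTop) c := by
  show (f.left.appTop) (Y.hom.appTop _) = X.hom.appTop _
  rw [← CommRingCat.comp_apply, ← Scheme.Hom.comp_appTop, Over.w f]

/-- Character units are a free group of finite rank. -/
theorem exists_charUnits_equiv [IsAlgClosed k] [Smooth G.hom] [QuasiCompact G.hom] [ConnectedSpace G.left]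
    [IsSeparated G.hom] [IsIntegral G.left] :
    ∃ r : ℕ, Nonempty (Multiplicative (Fin r → ℤ) ≃* charUnits G) := by
  obtain ⟨n, v, -, hker⟩ := S16113.result k G
  let w : charUnits G →* Multiplicative (Fin n → ℤ) := v.comp (charUnits G).subtype
  have hinj : Function.Injective w := by
    refine (injective_iff_map_eq_one w).2 fun ⟨x, hx⟩ h => Subtype.ext (Units.ext ?_)
    have : x ∈ v.ker := h
    rw [hker] at this
    obtain ⟨c, rfl⟩ := this
    have h1 : ∀ {X : Over (Spec (CommRingCat.of k))} (f : X ⟶ G),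
        pb f ((Units.map (((Scheme.ΓSpecIso (CommRingCat.of k)).inv ≫ G.hom.appTop).hom :
          k →* Γ(G.left, ⊤)) c : (Γ(G.left, ⊤))ˣ) : Γ(G.left, ⊤)) =
        ((Scheme.ΓSpecIso (CommRingCat.of k)).inv ≫ X.hom.appTop) (c : k) := fun f => pb_cst f _
    set u := ((Units.map (((Scheme.ΓSpecIso (CommRingCat.of k)).inv ≫ G.hom.appTop).hom :
          k →* Γ(G.left, ⊤)) c : (Γ(G.left, ⊤))ˣ)) with hu
    change pb μ[G] (u : Γ(G.left, ⊤)) = _ at hx
    rw [h1 μ[G], ← h1 (fst G G)] at hx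
    have h2 : pb (snd G G) (u : Γ(G.left, ⊤)) = 1 := (u.isUnit.map _).mul_left_cancel (hx.symm.trans (_root_.mul_one _).symm)
    have h3 := congrArg (pb (lift (1 : G ⟶ G) (𝟙 G))) h2
    rwa [← pb_comp, lift_snd, pb_id, map_one] at h3
  let ψ : Additive (charUnits G) →+ (Fin n → ℤ) := AddMonoidHom.toMultiplicativeRight.symm w
  have hψ : Function.Injective ψ := hinj
  haveI : Module.Free ℤ (AddSubgroup.toIntSubmodule ψ.range) := inferInstance
  let b := Module.finBasis ℤ (AddSubgroup.toIntSubmodule ψ.range)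
  let e : Additive (charUnits G) ≃+ (Fin _ → ℤ) :=
    (AddMonoidHom.ofInjective hψ).trans b.equivFun.toAddEquiv
  exact ⟨_, ⟨(AddEquiv.toMultiplicativeRight e).symm⟩⟩

variable {G}

/-- A homomorphism to the multiplicative group gives a character unit. -/
theorem exists_mem_charUnits {M : Type} [AddCommGroup M] (f : G ⟶ Red.DS (Spec (CommRingCat.of k)) M) [IsMonHom f]
    (m : Multiplicative M) : ∃ u : charUnits G, ((u : (Γ(G.left, ⊤))ˣ) : Γ(G.left, ⊤)) = chr f m := by
  obtain ⟨w, hw⟩ := ((Group.isUnit m).map (chr f))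
  refine ⟨⟨w, ?_⟩, hw⟩
  show pb μ[G] (w : Γ(G.left, ⊤)) = _
  have e : μ[G] ≫ f = (fst G G ≫ f) * (snd G G ≫ f) := mu_comp f
  rw [hw, ← chr_comp μ[G] f m, ← chr_comp (fst G G) f m, ← chr_comp (snd G G) f m, ← chr_mul (fst G G ≫ f) (snd G G ≫ f) m, e]

/-- A family of character units gives a homomorphism. -/
theorem exists_hom_of_units {M : Type} [AddCommGroup M] (ξ : Multiplicative M →* charUnits G) :
    ∃ f : G ⟶ Red.DS (Spec (CommRingCat.of k)) M, IsMonHom f ∧
      ∀ m, chr f m = ((ξ m : (Γ(G.left, ⊤))ˣ) : Γ(G.left, ⊤)) := by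
  obtain ⟨f, hf⟩ := chr_surjective (S := Spec (CommRingCat.of k)) (T := G)
    (((Units.coeHom _).comp (charUnits G).subtype).comp ξ)
  have hm : ∀ m, chr f m = ((ξ m : (Γ(G.left, ⊤))ˣ) : Γ(G.left, ⊤)) := fun m => DFunLike.congr_fun hf m
  have e : μ[G] ≫ f = (fst G G ≫ f) * (snd G G ≫ f) := by
    refine chr_ext (MonoidHom.ext fun m => ?_)
    rw [chr_comp μ[G] f m, chr_mul (fst G G ≫ f) (snd G G ≫ f) m, chr_comp (fst G G) f m, chr_comp (snd G G) f m, hm]
    exact (ξ m).2
  exact ⟨f, isMonHom_of_mu f e, hm⟩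

end Groth.Agent.H19TorQuot
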