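import Groth.Agent.H19TorQuot.Quot
import Groth.Agent.H19Grp.GroupCI
import Groth.Agent.H19Chev.IsogenyProperties
import Groth.Agent.S8431

/-!
# The kernel of the map to the character torus is connected and has no characters
-/

set_option autoImplicit false
set_option linter.style.haveILetI false
set_option backward.isDefEq.respectTransparency false
set_option maxHeartbeats 2000000
set_option synthInstance.maxHeartbeats 400000
universe u

open CategoryTheory CategoryTheory.Limits MonoidalCategory CartesianMonoidalCategory MonObj AlgebraicGeometry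
open Groth.Agent Groth.Agent.H25AbCube Groth.Agent.H19Quot
open scoped TensorProduct

noncomputable section

namespace Groth.Agent.H19TorQuot

variable {k : Type u} [Field k]

local notation "Pts" X => 𝟙_ (Over (Spec (CommRingCat.of k))) ⟶ X

/-- A quotient of two morphisms which agree after precomposition is trivial there. -/
theorem comp_div_eq_one {C : Type*} [Category C] [CartesianMonoidalCategory C] {X Y A : C} [GrpObj A] (f : X ⟶ Y)
    (u v : Y ⟶ A) (e : f ≫ u = f ≫ v) : f ≫ (u * v⁻¹) = 1 := by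
  rw [MonObj.comp_mul, GrpObj.comp_inv, e, mul_inv_cancel]

/-- Morphisms to a group with trivial quotient are equal. -/
theorem eq_of_div_eq_one {C : Type*} [Category C] [CartesianMonoidalCategory C] {Y A : C} [GrpObj A]
    {u v : Y ⟶ A} (h : u * v⁻¹ = 1) : u = v :=
  mul_inv_eq_one.1 h

/-- A smooth connected affine commutative extension of a torus by a group of multiplicative type is a torus. -/
theorem isTorus_of_mult_extension (L T₁ T₂ : Over (Spec (CommRingCat.of k))) [GrpObj L] [GrpObj T₁] [GrpObj T₂]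
    [IsCommMonObj L] [Smooth L.hom] [ConnectedSpace L.left] [IsAffine L.left]
    (i : T₁ ⟶ L) [IsMonHom i] (p : L ⟶ T₂) [IsMonHom p] [Surjective p.left] [Flat p.left]
    (hk : AlgGrp.IsKernel i p) (h₁ : SGA3x.IsMultTypeFT T₁) (h₂ : Red.IsTorus T₂) : Red.IsTorus L := by
  let K := AlgebraicClosure k
  haveI : IsNoetherianRing (CommRingCat.of k) := inferInstanceAs (IsNoetherianRing k)
  haveI : LocallyOfFinitePresentation L.hom := inferInstance
  haveI : IsAffineHom L.hom := inferInstance
  obtain ⟨A, _, _, _, _, _, ⟨e₀⟩⟩ := H19Chev.TorusCriterion.exists_model L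
  refine (H19Chev.TorusCriterion.isTorus_iff_isDiag L e₀).2 ?_
  obtain ⟨C, A', A'', _, _, _, _, _, _, π, ψ, ⟨eC⟩, hcc, -, -, h', -, h'', hfl, hsj, hkp⟩ :=
    H21Hom.exists_algebra_data (R := K) p i hk h₁
      (H21Diag.isMultTypeFT_of_isTorus h₂) (fun a b => mul_comm a b)
      (Spec.map (CommRingCat.ofHom (algebraMap k K)))
  haveI := hcc
  obtain ⟨E⟩ := H21Hom.nonempty_bialgEquiv_of_iso (eC.symm ≪≫ e₀)
  refine H19Chev.CoradSplit.isDiag_of_isDiagonalizable (H20Comod.isDiagonalizable_of_forall_primitive fun f hf => ?_)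
  have h := H21Hom.no_primitive_of_extension h' h'' π ψ hfl hsj hkp
  have hf' : CoalgebraStruct.comul (R := K) (E f) = E f ⊗ₜ[K] (1 : C) + (1 : C) ⊗ₜ[K] E f := by
    rw [← CoalgHomClass.map_comp_comul_apply, hf, map_add]
    show E f ⊗ₜ[K] E 1 + E 1 ⊗ₜ[K] E f = _
    rw [map_one]
  simpa using h (E f) hf'

/-- A normal subgroup of finite index in a kernel with only torus quotients is everything. -/
theorem isIso_of_finite_index [IsAlgClosed k] {G T H N : Over (Spec (CommRingCat.of k))} [GrpObj G] [GrpObj T]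
    [GrpObj H] [GrpObj N] [Smooth G.hom] [QuasiCompact G.hom] [ConnectedSpace G.left] (hT : Red.IsTorus T)
    (q : G ⟶ T) [IsMonHom q] [Surjective q.left]
    (hfac : ∀ (E : Over (Spec (CommRingCat.of k))) [GrpObj E] (f : G ⟶ E) [IsMonHom f], Red.IsTorus E →
      ∃ g : T ⟶ E, IsMonHom g ∧ q ≫ g = f)
    (h : H ⟶ G) [IsMonHom h] [IsClosedImmersion h.left] (hk : AlgGrp.IsKernel h q)
    (j : N ⟶ H) [IsMonHom j] [IsClosedImmersion j.left] (hn : AlgGrp.IsNormalHom (j ≫ h))
    (t : Finset (Pts H)) (ht : ∀ x : Pts H, ∃ g ∈ t, ∃ a : Pts N, a ≫ j = x * g⁻¹) : IsIso j := by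
  classical
  haveI : IsClosedImmersion (j ≫ h).left := by rw [Over.comp_left]; infer_instance
  haveI : Mono (j ≫ h) := Over.mono_of_mono_left _
  haveI : Mono h := Over.mono_of_mono_left _
  haveI : Mono j := Over.mono_of_mono_left _
  obtain ⟨E, gE, p, hp, hEl, hEq, hpf, hps, hpp, hkp⟩ := H19Quot.exists_quotientGroup (j ≫ h) hn
  haveI := hp; haveI := hEl; haveI := hEq; haveI := hpf; haveI := hps; haveI := hpp
  obtain ⟨hEs, hEn⟩ := H19Chev.smooth_connected_quotient p
  haveI := hEs; haveI := hEn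
  obtain ⟨hTa, hTs, hTn, hTc⟩ := H19SemiAb.torus_props T hT
  haveI := hTa; haveI := hTs; haveI := hTn; haveI := hTc
  haveI : QuasiCompact T.hom := inferInstance
  obtain ⟨ρ, hρm, hρ⟩ := AbelianCat.desc_hom p (hasFpqcSection_of_lfp p) hkp q
    (by rw [Category.assoc, H19Grp.kernel_comp_eq_one hk, MonObj.comp_one])
  haveI := hρm
  haveI : Surjective ρ.left := by
    haveI : Surjective (p.left ≫ ρ.left) := by rw [← Over.comp_left, hρ]; infer_instance
    exact Surjective.of_comp p.left ρ.left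
  haveI : IsFinite ρ.left := by
    refine H19Chev.isFinite_of_finite_ker ρ ((t.image fun g => (g ≫ h) ≫ p).finite_toSet.subset fun y hy => ?_)
    obtain ⟨x, rfl⟩ := H19Chev.exists_pt_lift p y
    obtain ⟨x', rfl⟩ := H19Grp.kernel_lift hk x (by rw [← hρ, ← Category.assoc]; exact hy)
    obtain ⟨g, hg, a, ha⟩ := ht x'
    rw [Finset.coe_image]
    refine ⟨g, hg, ?_⟩
    have h1 : ((x' * g⁻¹) ≫ h) ≫ p = 1 := by
      rw [← ha, Category.assoc, Category.assoc, ← Category.assoc j h p, H19Grp.kernel_comp_eq_one hkp,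
        MonObj.comp_one]
    rw [MonObj.mul_comp, GrpObj.inv_comp, MonObj.mul_comp, GrpObj.inv_comp, mul_inv_eq_one] at h1
    exact h1.symm
  haveI : IsAffine E.left := isAffine_of_isAffineHom ρ.left
  haveI : IsSeparated E.hom := H19Grp.AffineQuotient.isSeparated_of_grp E
  haveI : IsCommMonObj E := H19SemiAb.isCommMonObj_of_comm fun X a b => by
    haveI : Smooth (E ⊗ E).hom := H19Grp.PointsDense.smooth_tensor E E
    have key : fst E E * snd E E = snd E E * fst E E := H19Chev.SolvableIsogeny.ext_pts _ _ fun x => by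
      rw [MonObj.comp_mul, MonObj.comp_mul]
      exact H19Chev.IsogenyProperties.comm_pts_of_finite_hom ρ (fun u v => mul_comm u v) _ _
    calc a * b = lift a b ≫ (fst E E * snd E E) := by rw [MonObj.comp_mul, lift_fst, lift_snd]
      _ = b * a := by rw [key, MonObj.comp_mul, lift_fst, lift_snd]
  have hEt : Red.IsTorus E := by
    refine (H19Chev.TorusCriterion.isTorus_iff_of_isogeny E T ρ ⟨inferInstance, fun K i' hi' => ?_⟩).2 hT
    haveI : IsFinite (toUnit K).left :=
      MorphismProperty.of_isPullback (P := @IsFinite) (Over.forget _ |>.map_isPullback hi') ‹IsFinite ρ.left›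
    rwa [show (toUnit K).left = K.hom from (Category.comp_id _).symm.trans (Over.w (toUnit K))] at this
  obtain ⟨g, hgm, hg⟩ := hfac E p hEt
  haveI := hgm
  obtain ⟨z, hz⟩ := H19Grp.kernel_lift hkp h (by
    rw [← hg, ← Category.assoc, H19Grp.kernel_comp_eq_one hk, MonObj.one_comp])
  have hzj : z ≫ j = 𝟙 H := by rw [← cancel_mono h, Category.assoc, hz, Category.id_comp]
  exact ⟨z, by rw [← cancel_mono j, Category.assoc, hzj, Category.comp_id, Category.id_comp], hzj⟩

/-- The kernel of the map to the character torus is smooth and connected. -/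
theorem kernel_smooth_connected [IsAlgClosed k] {G T H : Over (Spec (CommRingCat.of k))} [GrpObj G] [GrpObj T]
    [GrpObj H] [Smooth G.hom] [QuasiCompact G.hom] [ConnectedSpace G.left] (hT : Red.IsTorus T)
    (q : G ⟶ T) [IsMonHom q] [Surjective q.left]
    (hfac : ∀ (E : Over (Spec (CommRingCat.of k))) [GrpObj E] (f : G ⟶ E) [IsMonHom f], Red.IsTorus E →
      ∃ g : T ⟶ E, IsMonHom g ∧ q ≫ g = f)
    (h : H ⟶ G) [IsMonHom h] [IsClosedImmersion h.left] (hk : AlgGrp.IsKernel h q) :
    Smooth H.hom ∧ ConnectedSpace H.left := by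
  classical
  haveI : LocallyOfFiniteType H.hom := by rw [← Over.w h]; infer_instance
  haveI : QuasiCompact H.hom := by rw [← Over.w h]; infer_instance
  haveI : Mono h := Over.mono_of_mono_left _
  obtain ⟨gR, hrr⟩ := H19Grp.GroupCI.exists_grpObj_reduced H
  let R : Over (Spec (CommRingCat.of k)) := Over.mk (H.left.nilradical.subschemeι ≫ H.hom)
  let rr : R ⟶ H := Over.homMk H.left.nilradical.subschemeι rfl
  haveI : IsMonHom rr := hrr
  haveI : IsClosedImmersion rr.left := inferInstanceAs (IsClosedImmersion H.left.nilradical.subschemeι)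
  haveI : Mono rr := Over.mono_of_mono_left _
  haveI : IsReduced R.left := inferInstanceAs (IsReduced H.left.nilradical.subscheme)
  have hsurj : Set.range rr.left = Set.univ := by
    show Set.range H.left.nilradical.subschemeι = Set.univ
    rw [Scheme.IdealSheafData.range_subschemeι, Scheme.support_nilradical]
    rfl
  haveI : LocallyOfFiniteType R.hom := by rw [← Over.w rr]; infer_instance
  haveI : QuasiCompact R.hom := by rw [← Over.w rr]; infer_instance
  haveI : Smooth R.hom := H19Grp.smooth_of_isReduced_perfect R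
  have hR : AlgGrp.IsNormalHom (rr ≫ h) := by
    intro X g x
    haveI : Smooth (G ⊗ R).hom := H19Grp.PointsDense.smooth_tensor G R
    haveI : IsReduced (G ⊗ R).left := H19Chev.isReduced_smooth
    obtain ⟨c, hc⟩ := H19Grp.kernel_lift hk (fst G R * (snd G R ≫ rr ≫ h) * (fst G R)⁻¹) (by
      rw [MonObj.mul_comp, MonObj.mul_comp, GrpObj.inv_comp, Category.assoc, Category.assoc,
        H19Grp.kernel_comp_eq_one hk, MonObj.comp_one, MonObj.comp_one, _root_.mul_one, mul_inv_cancel])
    obtain ⟨z, hz⟩ := H17.exists_lift_of_range_subset c.left rr.left (fun w _ => hsurj.ge trivial)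
    let z' : G ⊗ R ⟶ R := Over.homMk z (by rw [← Over.w rr, ← Category.assoc, hz, Over.w c])
    have hz' : z' ≫ rr = c := Over.OverMorphism.ext hz
    refine ⟨lift g x ≫ z', ?_⟩
    rw [Category.assoc, reassoc_of% hz', hc, MonObj.comp_mul, MonObj.comp_mul, GrpObj.comp_inv, lift_fst,
      lift_snd_assoc]
  obtain ⟨L, gL, j, hj, hjc, hjo, hLn, hLs, hLq, h1⟩ := H19Chev.exists_smooth_idComp R
  haveI := hj; haveI := hjc; haveI := hjo; haveI := hLn; haveI := hLs; haveI := hLq
  haveI : Mono (rr ≫ h) := inferInstance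
  have hL : AlgGrp.IsNormalHom ((j ≫ rr) ≫ h) := by
    rw [Category.assoc]
    exact H19Chev.isNormalHom_idComp (rr ≫ h) hR j
  haveI : IsClosedImmersion (j ≫ rr).left := by rw [Over.comp_left]; infer_instance
  haveI : CompactSpace R.left := QuasiCompact.compactSpace_of_compactSpace R.hom
  obtain ⟨s, hs⟩ := H19Chev.finite_classes j h1
  have hlift : ∀ x : Pts H, ∃ y : Pts R, y ≫ rr = x := fun x => by
    haveI : Surjective rr.left := ⟨fun w => hsurj.ge trivial⟩
    exact H19Chev.exists_pt_lift rr x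
  haveI : IsIso (j ≫ rr) := isIso_of_finite_index hT q hfac h hk (j ≫ rr) hL (s.image fun g => g ≫ rr) fun x => by
    obtain ⟨y, rfl⟩ := hlift x
    obtain ⟨g, hg, a, ha⟩ := hs y
    refine ⟨g ≫ rr, Finset.mem_image.2 ⟨g, hg, rfl⟩, a, ?_⟩
    rw [← Category.assoc, ha, MonObj.mul_comp, GrpObj.inv_comp]
  haveI : IsIso (j ≫ rr).left := inferInstanceAs (IsIso ((Over.forget _).map (j ≫ rr)))
  refine ⟨?_, ?_⟩
  · rw [← Over.w (inv (j ≫ rr))]
    haveI : IsIso (inv (j ≫ rr)).left := inferInstanceAs (IsIso ((Over.forget _).map (inv (j ≫ rr))))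
    infer_instance
  · exact (j ≫ rr).left.surjective.connectedSpace (j ≫ rr).left.continuous

/-- The kernel of the map to the character torus has no non-trivial characters. -/
theorem char_eq_one [IsAlgClosed k] {G T H M : Over (Spec (CommRingCat.of k))} [GrpObj G] [GrpObj T]
    [GrpObj H] [GrpObj M] [IsCommMonObj M] (hM : Red.IsTorus M) [Smooth G.hom] [QuasiCompact G.hom]
    [ConnectedSpace G.left] [Smooth H.hom] [ConnectedSpace H.left] (hT : Red.IsTorus T)
    (q : G ⟶ T) [IsMonHom q] [Surjective q.left]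
    (hfac : ∀ (E : Over (Spec (CommRingCat.of k))) [GrpObj E] (f : G ⟶ E) [IsMonHom f], Red.IsTorus E →
      ∃ g : T ⟶ E, IsMonHom g ∧ q ≫ g = f)
    (h : H ⟶ G) [IsMonHom h] [IsClosedImmersion h.left] (hk : AlgGrp.IsKernel h q)
    (ψ : H ⟶ M) [IsMonHom ψ]
    (hinv : ∀ c : G ⊗ H ⟶ H, c ≫ h = fst G H * (snd G H ≫ h) * (fst G H)⁻¹ → c ≫ ψ = snd G H ≫ ψ) : ψ = 1 := by
  classical
  haveI : IsNoetherianRing (CommRingCat.of k) := inferInstanceAs (IsNoetherianRing k)
  haveI : Mono h := Over.mono_of_mono_left _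
  haveI : QuasiCompact H.hom := by rw [← Over.w h]; infer_instance
  obtain ⟨hMa, hMs, hMn, -⟩ := H19SemiAb.torus_props M hM
  haveI := hMa; haveI := hMs; haveI := hMn
  haveI : QuasiCompact M.hom := inferInstance
  haveI : IsSeparated M.hom := H19Grp.AffineQuotient.isSeparated_of_grp M
  obtain ⟨hTa, hTs, hTn, hTc⟩ := H19SemiAb.torus_props T hT
  haveI := hTa; haveI := hTs; haveI := hTn; haveI := hTc
  haveI : QuasiCompact T.hom := inferInstance
  -- the image of the character
  obtain ⟨C, gC, p₀, i₀, hp₀, hi₀, hpi₀, hp₀f, hp₀s, hp₀p, hi₀c⟩ :=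
    AbelianCat.exists_image ψ ⟨inferInstance, inferInstance⟩ ⟨inferInstance, inferInstance⟩
  haveI := hp₀; haveI := hi₀; haveI := hp₀f; haveI := hp₀s; haveI := hp₀p; haveI := hi₀c
  haveI : Mono i₀ := Over.mono_of_mono_left _
  haveI : LocallyOfFiniteType C.hom := by rw [← Over.w i₀]; infer_instance
  haveI : QuasiCompact C.hom := by rw [← Over.w i₀]; infer_instance
  haveI : IsAffine C.left := isAffine_of_isAffineHom i₀.left
  have hCm : SGA3x.IsMultTypeFT C := H21Hom.isMultTypeFT_of_closed (H21Diag.isMultTypeFT_of_isTorus hM) i₀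
  -- the quotient of G by the kernel of the character
  obtain ⟨K, gK, κ, hκ, hκc, hkκ⟩ := H19Grp.AffineQuotient.exists_kernel ψ
  haveI := hκ; haveI := hκc
  haveI : Mono κ := Over.mono_of_mono_left _
  obtain ⟨c, hc⟩ := H19Grp.kernel_lift hk (fst G H * (snd G H ≫ h) * (fst G H)⁻¹) (by
    rw [MonObj.mul_comp, MonObj.mul_comp, GrpObj.inv_comp, Category.assoc,
      H19Grp.kernel_comp_eq_one hk, MonObj.comp_one, _root_.mul_one, mul_inv_cancel])
  have hcψ := hinv c hc
  have hconj : ∀ {X : Over (Spec (CommRingCat.of k))} (g : X ⟶ G) (x : X ⟶ H),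
      ∃ y : X ⟶ H, y ≫ h = g * (x ≫ h) * g⁻¹ ∧ y ≫ ψ = x ≫ ψ := fun g x => by
    refine ⟨lift g x ≫ c, ?_, ?_⟩
    · rw [Category.assoc, hc, MonObj.comp_mul, MonObj.comp_mul, GrpObj.comp_inv, lift_fst, lift_snd_assoc]
    · rw [Category.assoc, hcψ, lift_snd_assoc]
  haveI : IsClosedImmersion (κ ≫ h).left := by rw [Over.comp_left]; infer_instance
  have hKn : AlgGrp.IsNormalHom (κ ≫ h) := fun X g x => by
    obtain ⟨y, hy, hyψ⟩ := hconj g (x ≫ κ)
    obtain ⟨z, hz⟩ := H19Grp.kernel_lift hkκ y (by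
      rw [hyψ, Category.assoc, H19Grp.kernel_comp_eq_one hkκ, MonObj.comp_one])
    exact ⟨z, by rw [reassoc_of% hz, hy, Category.assoc]⟩
  obtain ⟨E, gE, p, hp, hEl, hEq, hpf, hps, hpp, hkp⟩ := H19Quot.exists_quotientGroup (κ ≫ h) hKn
  haveI := hp; haveI := hEl; haveI := hEq; haveI := hpf; haveI := hps; haveI := hpp
  obtain ⟨hEs, hEn⟩ := H19Chev.smooth_connected_quotient p
  haveI := hEs; haveI := hEn
  haveI : IsSeparated T.hom := H19Grp.AffineQuotient.isSeparated_of_grp T
  obtain ⟨ρ, hρm, hρ⟩ := AbelianCat.desc_hom p (hasFpqcSection_of_lfp p) hkp q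
    (by rw [Category.assoc, H19Grp.kernel_comp_eq_one hk, MonObj.comp_one])
  haveI := hρm
  haveI : Surjective ρ.left := by
    haveI : Surjective (p.left ≫ ρ.left) := by rw [← Over.comp_left, hρ]; infer_instance
    exact Surjective.of_comp p.left ρ.left
  obtain ⟨hρl, hρq, hρp⟩ := AbelianCat.props_hom ρ ⟨inferInstance, inferInstance⟩ ⟨inferInstance, inferInstance⟩
  haveI := hρl; haveI := hρq; haveI := hρp
  haveI : Flat ρ.left := H19Grp.flat_of_surjective ρ
  obtain ⟨N, gN, n, hn, hnc, hkn⟩ := H19Grp.AffineQuotient.exists_kernel ρ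
  haveI := hn; haveI := hnc
  haveI : Mono n := Over.mono_of_mono_left _
  obtain ⟨pN, hpN⟩ := H19Grp.kernel_lift hkn (h ≫ p) (by
    rw [Category.assoc, hρ, H19Grp.kernel_comp_eq_one hk])
  haveI : IsMonHom (pN ≫ n) := hpN ▸ (inferInstance : IsMonHom (h ≫ p))
  haveI : IsMonHom pN := H19Chev.isMonHom_of_mono pN n
  have hlift : ∀ c : PullbackCone p n, ∃ y : c.pt ⟶ H, y ≫ h = c.fst := fun c => H19Grp.kernel_lift hk c.fst (by
    rw [← hρ, ← Category.assoc, c.condition, Category.assoc, H19Grp.kernel_comp_eq_one hkn, MonObj.comp_one])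
  choose y hy using hlift
  have hsq : IsPullback h pN p n := by
    refine IsPullback.of_isLimit' ⟨hpN.symm⟩ (PullbackCone.IsLimit.mk _ y hy (fun c => ?_) (fun c m hm _ => ?_))
    · rw [← cancel_mono n, Category.assoc, hpN, ← Category.assoc, hy, c.condition]
    · rw [← cancel_mono h, hm, hy]
  have hsq' := hsq.map (Over.forget _)
  haveI : Flat pN.left := MorphismProperty.of_isPullback (P := @Flat) hsq' ‹Flat p.left›
  haveI : Surjective pN.left := MorphismProperty.of_isPullback (P := @Surjective) hsq' ‹Surjective p.left›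
  haveI : LocallyOfFinitePresentation pN.left :=
    MorphismProperty.of_isPullback (P := @LocallyOfFinitePresentation) hsq' ‹LocallyOfFinitePresentation p.left›
  have hkN : AlgGrp.IsKernel κ pN := H19Grp.isKernel_of
    (by rw [← cancel_mono n, Category.assoc, hpN, ← Category.assoc, H19Grp.kernel_comp_eq_one hkp, MonObj.one_comp])
    (fun X a b hab => (cancel_mono κ).1 hab)
    (fun X x hx => by
      obtain ⟨z, hz⟩ := H19Grp.kernel_lift hkp (x ≫ h) (by
        rw [Category.assoc, ← hpN, ← Category.assoc, hx, MonObj.one_comp])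
      exact ⟨z, by rw [← cancel_mono h, Category.assoc]; exact hz⟩)
  have hκp₀ : κ ≫ p₀ = 1 := by
    rw [← cancel_mono i₀, Category.assoc, hpi₀, H19Grp.kernel_comp_eq_one hkκ, MonObj.one_comp]
  have hkC : AlgGrp.IsKernel κ p₀ := H19Grp.isKernel_of hκp₀ (fun X a b hab => (cancel_mono κ).1 hab)
    (fun X x hx => H19Grp.kernel_lift hkκ x (by rw [← hpi₀, ← Category.assoc, hx, MonObj.one_comp]))
  obtain ⟨e₁, he₁m, he₁⟩ := AbelianCat.desc_hom pN (hasFpqcSection_of_lfp pN) hkN p₀ hκp₀
  obtain ⟨e₂, he₂m, he₂⟩ := AbelianCat.desc_hom p₀ (hasFpqcSection_of_lfp p₀) hkC pN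
    (H19Grp.kernel_comp_eq_one hkN)
  haveI := he₁m; haveI := he₂m
  let φ : C ≅ N := ⟨e₂, e₁, H19Chev.cancel_quotient p₀ (by rw [← Category.assoc, he₂, he₁, Category.comp_id]),
    H19Chev.cancel_quotient pN (by rw [← Category.assoc, he₁, he₂, Category.comp_id])⟩
  haveI : IsMonHom φ.hom := he₂m
  have hNm : SGA3x.IsMultTypeFT N := H21Hom.isMultTypeFT_of_iso hCm (Grp.mkIso' φ)
  haveI : IsAffine ((Over.forget (Spec (CommRingCat.of k))).obj C) := ‹IsAffine C.left›
  haveI : IsAffine N.left := IsAffine.of_isIso ((Over.forget _).mapIso φ).inv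
  -- the quotient is affine
  have hsqρ : IsPullback ((E ◁ n) ≫ μ[E]) (fst E N) ρ ρ := by
    have e : (E ◁ n) ≫ μ[E] = fst E N * (snd E N ≫ n) := by rw [Hom.mul_def]; congr 1
    rw [e]; exact (H19Grp.isPullback_kernel ρ n hkn).flip
  haveI : IsAffineHom N.hom := inferInstance
  haveI : IsAffineHom ρ.left := descend_proj (P := @IsAffineHom) (hasFpqcSection_of_lfp ρ) hsqρ inferInstance
  haveI : IsAffine E.left := isAffine_of_isAffineHom ρ.left
  -- the kernel is central
  have hcent : ∀ (X : Over (Spec (CommRingCat.of k))) (x : X ⟶ N) (g : X ⟶ E), (x ≫ n) * g = g * (x ≫ n) := by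
    have key : (snd E N ≫ n) * fst E N = fst E N * (snd E N ≫ n) := by
      haveI : Flat (p ⊗ₘ pN).left := H21Quot.flat_tensorHom p pN
      haveI : Surjective (p ⊗ₘ pN).left := H21Quot.surjective_tensorHom p pN
      haveI : Epi (p ⊗ₘ pN).left := Flat.epi_of_flat_of_surjective _
      haveI : Epi (p ⊗ₘ pN) := Over.epi_of_epi_left _
      rw [← cancel_epi (p ⊗ₘ pN), MonObj.comp_mul, MonObj.comp_mul, tensorHom_snd_assoc, hpN, tensorHom_fst,
        ← Category.assoc (snd G H) h p]
      obtain ⟨z, hz, hzψ⟩ := hconj (fst G H) (snd G H)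
      obtain ⟨w, hw⟩ := H19Grp.kernel_lift hkκ (z * (snd G H)⁻¹) (by
        rw [MonObj.mul_comp, GrpObj.inv_comp, hzψ, mul_inv_cancel])
      have h2 : ((z * (snd G H)⁻¹) ≫ h) ≫ p = 1 := by
        rw [← hw, Category.assoc, Category.assoc, ← Category.assoc κ h p, H19Grp.kernel_comp_eq_one hkp,
          MonObj.comp_one]
      rw [MonObj.mul_comp, GrpObj.inv_comp, hz, MonObj.mul_comp, MonObj.mul_comp, MonObj.mul_comp,
        GrpObj.inv_comp, GrpObj.inv_comp] at h2
      rw [mul_inv_eq_one, mul_inv_eq_iff_eq_mul] at h2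
      exact h2.symm
    intro X x g
    have := congrArg (lift g x ≫ ·) key
    simpa only [MonObj.comp_mul, lift_fst, lift_snd_assoc] using this
  have hRQ : RedSub.IsQuotient n ρ := ⟨inferInstance, inferInstance, inferInstance, hsqρ.flip⟩
  haveI : IsCommMonObj E := H19SemiAb.isCommMonObj_of_comm fun X a b =>
    S8431.result k E N n hcent T ρ hRQ hT X a b
  have hEt : Red.IsTorus E := isTorus_of_mult_extension E N T n ρ hkn hNm hT
  obtain ⟨g, hgm, hg⟩ := hfac E p hEt
  haveI := hgm
  obtain ⟨z, hz⟩ := H19Grp.kernel_lift hkp h (by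
    rw [← hg, ← Category.assoc, H19Grp.kernel_comp_eq_one hk, MonObj.one_comp])
  have hzκ : z ≫ κ = 𝟙 H := by rw [← cancel_mono h, Category.assoc, hz, Category.id_comp]
  rw [← Category.id_comp ψ, ← hzκ, Category.assoc, H19Grp.kernel_comp_eq_one hkκ, MonObj.comp_one]

end Groth.Agent.H19TorQuot
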