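import Groth.Agent.H19TorQuot.Chars
import Groth.Agent.H19SemiAb.Quot
import Groth.Agent.H19Chev.IdComp
import Groth.Agent.S11937

/-!
# The largest torus quotient of a connected group variety
-/

set_option autoImplicit false
set_option linter.style.haveILetI false
set_option backward.isDefEq.respectTransparency false
set_option backward.isDefEq.respectTransparency.types false
set_option maxHeartbeats 2000000
set_option synthInstance.maxHeartbeats 400000
universe u

open CategoryTheory CategoryTheory.Limits MonoidalCategory CartesianMonoidalCategory MonObj AlgebraicGeometry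
open Groth.Agent Groth.Agent.H18Torsor.DiagExact Groth.Agent.H25AbCube Groth.Agent.H19Quot

noncomputable section

namespace Groth.Agent.H19TorQuot

variable {k : Type u} [Field k]

/-- Over an algebraically closed field a torus receives a group isomorphism from a diagonalisable group. -/
theorem exists_DS_iso [IsAlgClosed k] {E : Over (Spec (CommRingCat.of k))} [GrpObj E] (hE : Red.IsTorus E) :
    ∃ (s : ℕ) (φ : Red.DS (Spec (CommRingCat.of k)) (Fin s → ℤ) ≅ E), IsMonHom φ.hom := by
  obtain ⟨n, e, he⟩ := H21Dyn.exists_split_algClosed E hE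
  haveI := he
  haveI : IsIso (H21Diag.diagToDS k (Fin n → ℤ)) := H21Diag.isIso_diagToDS k (Fin n → ℤ)
  let a := asIso (H21Diag.diagToDS k (Fin n → ℤ))
  haveI : IsMonHom a.hom := H21Diag.isMonHom_diagToDS k (Fin n → ℤ)
  exact ⟨n, a.symm ≪≫ e, inferInstanceAs (IsMonHom (a.inv ≫ e.hom))⟩

/-- The homomorphism to the torus of characters. -/
theorem exists_torusQuot [IsAlgClosed k] (G : Over (Spec (CommRingCat.of k))) [GrpObj G] [Smooth G.hom]
    [QuasiCompact G.hom] [ConnectedSpace G.left] :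
    ∃ (r : ℕ) (q : G ⟶ Red.DS (Spec (CommRingCat.of k)) (Fin r → ℤ)), IsMonHom q ∧
      Red.IsTorus (Red.DS (Spec (CommRingCat.of k)) (Fin r → ℤ)) ∧ Surjective q.left ∧ Flat q.left ∧
      LocallyOfFinitePresentation q.left ∧
      (∀ (M : Type) [AddCommGroup M] (f : G ⟶ Red.DS (Spec (CommRingCat.of k)) M) [IsMonHom f],
        ∃ φ : M →+ (Fin r → ℤ), q ≫ Red.DSmap _ φ = f) := by
  haveI : IsSeparated G.hom := H19Grp.AffineQuotient.isSeparated_of_grp G
  haveI : GeometricallyIntegral G.hom := H19Chev.geometricallyIntegral_grp G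
  haveI : IsIntegral G.left := GeometricallyIntegral.isIntegral_of_subsingleton G.hom
  obtain ⟨r, ⟨ξ⟩⟩ := exists_charUnits_equiv G
  obtain ⟨q, hq, hval⟩ := exists_hom_of_units ξ.toMonoidHom
  haveI := hq
  have huniv : ∀ (M : Type) [AddCommGroup M] (f : G ⟶ Red.DS (Spec (CommRingCat.of k)) M) [IsMonHom f],
      ∃ φ : M →+ (Fin r → ℤ), q ≫ Red.DSmap _ φ = f := fun M _ f _ => by
    choose u hu using exists_mem_charUnits f
    let ψ : Multiplicative M →* Multiplicative (Fin r → ℤ) :=
      ξ.symm.toMonoidHom.comp (MonoidHom.mk' u fun a b => Subtype.ext (Units.ext (by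
        push_cast; rw [hu, hu, hu, map_mul])))
    refine ⟨AddMonoidHom.toMultiplicative.symm ψ, chr_ext (MonoidHom.ext fun m => ?_)⟩
    rw [chr_comp_DSmap, MonoidHom.comp_apply, hval]
    show (((ξ (ξ.symm (u m))) : (Γ(G.left, ⊤))ˣ) : Γ(G.left, ⊤)) = chr f m
    rw [MulEquiv.apply_symm_apply, hu]
  let T := Red.DS (Spec (CommRingCat.of k)) (Fin r → ℤ)
  have hT : Red.IsTorus T := H27Witt.isTorus_DS _ r
  obtain ⟨hTa, hTs, hTn, hTc⟩ := H19SemiAb.torus_props T hT
  haveI := hTa; haveI := hTs; haveI := hTn; haveI := hTc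
  haveI : QuasiCompact T.hom := inferInstance
  obtain ⟨C, gC, p, i, hp, hi, hpi, hpf, hps, hpp, hic⟩ :=
    AbelianCat.exists_image q ⟨inferInstance, inferInstance⟩ ⟨inferInstance, inferInstance⟩
  haveI := hp; haveI := hi; haveI := hpf; haveI := hps; haveI := hpp; haveI := hic
  haveI : Mono i := Over.mono_of_mono_left _
  obtain ⟨D, gD, d, hd, hDc, hDft, hdf, hds, hdp, hkd⟩ := AbelianCat.exists_cokernel i ⟨inferInstance, inferInstance⟩
  haveI := hd; haveI := hDc; haveI := hdf; haveI := hds; haveI := hdp; haveI := hDft.lft; haveI := hDft.qc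
  haveI : IsAffine D.left := H19Grp.AffineQuotient.isAffine_of_flat_surjective T D d
  obtain ⟨hDs, hDn⟩ := H19Chev.smooth_connected_quotient d
  haveI := hDs; haveI := hDn
  obtain ⟨s, φ, hφ⟩ := exists_DS_iso (H19SemiAb.isTorus_of_surjective T D hT d)
  haveI := hφ
  have hd1 : d = 1 := by
    have h1 : d ≫ φ.inv = 1 := by
      obtain ⟨ψ, hψ⟩ := S11937.exists_eq_DSmap (d ≫ φ.inv)
      rw [hψ]
      have h2 : q ≫ Red.DSmap _ ψ = 1 := by
        rw [← hψ, ← hpi, Category.assoc, ← Category.assoc i, H19Grp.kernel_comp_eq_one hkd, MonObj.one_comp,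
          MonObj.comp_one]
      have h3 : ∀ m, ψ m = 0 := fun m => by
        have h4 := DFunLike.congr_fun (congrArg chr h2) (Multiplicative.ofAdd m)
        rw [chr_comp_DSmap, chr_one, MonoidHom.comp_apply, MonoidHom.one_apply, hval] at h4
        have h5 : ξ.toMonoidHom (AddMonoidHom.toMultiplicative ψ (Multiplicative.ofAdd m)) = 1 :=
          Subtype.ext (Units.ext h4)
        have h6 := ξ.injective (h5.trans (map_one ξ).symm)
        exact Multiplicative.ofAdd.injective h6
      refine chr_ext (MonoidHom.ext fun m => ?_)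
      rw [← Category.id_comp (Red.DSmap _ ψ), chr_comp_DSmap, MonoidHom.comp_apply, chr_one, MonoidHom.one_apply,
        show AddMonoidHom.toMultiplicative ψ m = 1 from h3 m.toAdd, map_one]
    have h7 := congrArg (· ≫ φ.hom) h1
    simpa using h7.trans (MonObj.one_comp φ.hom)
  obtain ⟨z, hz⟩ := H19Grp.kernel_lift hkd (𝟙 T) (by rw [Category.id_comp, hd1])
  haveI : IsIso i := ⟨z, by rw [← cancel_mono i, Category.assoc, hz, Category.comp_id, Category.id_comp], hz⟩
  haveI : IsIso i.left := inferInstanceAs (IsIso ((Over.forget _).map i))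
  refine ⟨r, q, hq, hT, ?_, ?_, ?_, huniv⟩ <;>
    · rw [← hpi, Over.comp_left]; infer_instance

/-- Homomorphisms to tori factor through the character torus. -/
theorem exists_factor [IsAlgClosed k] {G E : Over (Spec (CommRingCat.of k))} [GrpObj G] [GrpObj E] {r : ℕ}
    (q : G ⟶ Red.DS (Spec (CommRingCat.of k)) (Fin r → ℤ))
    (huniv : ∀ (M : Type) [AddCommGroup M] (f : G ⟶ Red.DS (Spec (CommRingCat.of k)) M) [IsMonHom f],
        ∃ φ : M →+ (Fin r → ℤ), q ≫ Red.DSmap _ φ = f)
    (hE : Red.IsTorus E) (f : G ⟶ E) [IsMonHom f] :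
    ∃ g : Red.DS (Spec (CommRingCat.of k)) (Fin r → ℤ) ⟶ E, IsMonHom g ∧ q ≫ g = f := by
  obtain ⟨s, φ, hφ⟩ := exists_DS_iso hE
  haveI := hφ
  obtain ⟨ψ, hψ⟩ := huniv _ (f ≫ φ.inv)
  haveI : IsMonHom (Red.DSmap (Spec (CommRingCat.of k)) ψ) := H21Diag.isMonHom_DSmap _ _
  exact ⟨Red.DSmap _ ψ ≫ φ.hom, inferInstance, by rw [← Category.assoc, hψ, Category.assoc, φ.inv_hom_id,
    Category.comp_id]⟩

end Groth.Agent.H19TorQuot
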